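import Groth.Agent.Lib.AdicSmooth.PrimeField
import Groth.Agent.Lib.AdicSmooth.KaehlerSubfield
import Mathlib.RingTheory.Kaehler.JacobiZariski
import Mathlib.RingTheory.Nilpotent.GeometricallyReduced
import Mathlib.FieldTheory.SeparablyGenerated
import Mathlib.RingTheory.Etale.Field
import Mathlib.RingTheory.Unramified.Field
import Mathlib.FieldTheory.IsAlgClosed.AlgebraicClosure
import Mathlib.RingTheory.Flat.Basic
import Mathlib.RingTheory.TensorProduct.Free
import Mathlib.Algebra.CharP.Reduced

/-!
# Separable field extensions: formal smoothness, geometric reducedness, differentials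
-/

universe u
open scoped TensorProduct
open KaehlerDifferential

namespace Groth.Agent.Sep

variable (k K : Type u) [Field k] [Field K] [Algebra k K]

theorem injective_mbc_iff_bot :
    Function.Injective (mapBaseChange ℤ k K) ↔
      Function.Injective (mapBaseChange (⊥ : Subfield k) k K) := by
  haveI := PrimeField.subsingleton_kaehler_bot k
  have hk := PrimeField.bijective_map_of_subsingleton ℤ (⊥ : Subfield k) k
  have hK := PrimeField.bijective_map_of_subsingleton ℤ (⊥ : Subfield k) K
  have sq : (KaehlerDifferential.map ℤ (⊥ : Subfield k) K K) ∘ₗ mapBaseChange ℤ k K =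
      mapBaseChange (⊥ : Subfield k) k K ∘ₗ (KaehlerDifferential.map ℤ (⊥ : Subfield k) k k).baseChange K := by
    ext w
    simp [mapBaseChange_tmul, KaehlerDifferential.map_D]
  have hbc : Function.Bijective ((KaehlerDifferential.map ℤ (⊥ : Subfield k) k k).baseChange K) :=
    (LinearEquiv.lTensor K (LinearEquiv.ofBijective _ hk)).bijective
  have h : (⇑(KaehlerDifferential.map ℤ (⊥ : Subfield k) K K) ∘ ⇑(mapBaseChange ℤ k K)) =
      (⇑(mapBaseChange (⊥ : Subfield k) k K) ∘ ⇑((KaehlerDifferential.map ℤ (⊥ : Subfield k) k k).baseChange K)) :=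
    funext fun w => LinearMap.congr_fun sq w
  rw [← hK.1.of_comp_iff (mapBaseChange ℤ k K), h, Function.Injective.of_comp_iff' _ hbc]

theorem formallySmooth_iff_injective :
    Algebra.FormallySmooth k K ↔ Function.Injective (mapBaseChange ℤ k K) := by
  haveI := PrimeField.perfectField_bot k
  haveI : Algebra.FormallySmooth (⊥ : Subfield k) K := FieldFS.formallySmooth_of_perfectField _ _
  rw [injective_mbc_iff_bot k K, Algebra.formallySmooth_iff]
  have h1 := Algebra.H1Cotangent.exact_map_δ (⊥ : Subfield k) k K
  have h2 := Algebra.H1Cotangent.exact_δ_mapBaseChange (⊥ : Subfield k) k K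
  refine ⟨fun h => (injective_iff_map_eq_zero _).mpr fun w hw => ?_, fun h => ⟨inferInstance, ?_⟩⟩
  · obtain ⟨x, rfl⟩ := (h2 w).mp hw
    haveI := h.2
    rw [Subsingleton.elim x 0, map_zero]
  · refine subsingleton_of_forall_eq 0 fun x => ?_
    obtain ⟨y, rfl⟩ := (h1 x).mp (h (((h2 _).mpr ⟨x, rfl⟩).trans (map_zero _).symm))
    rw [Subsingleton.elim y 0, map_zero]

theorem injective_iff_derivation_extends :
    Function.Injective (mapBaseChange ℤ k K) ↔
      ∀ D : Derivation ℤ k K, ∃ D' : Derivation ℤ K K, ∀ a : k, D' (algebraMap k K a) = D a := by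
  refine ⟨fun h D => ?_, fun h => (injective_iff_map_eq_zero _).mpr fun w hw => ?_⟩
  · obtain ⟨l, hl⟩ := LinearMap.exists_leftInverse_of_injective (mapBaseChange ℤ k K) (LinearMap.ker_eq_bot.mpr h)
    refine ⟨(D.liftKaehlerDifferential.liftBaseChange K ∘ₗ l).compDer (KaehlerDifferential.D ℤ K), fun a => ?_⟩
    show D.liftKaehlerDifferential.liftBaseChange K (l (KaehlerDifferential.D ℤ K (algebraMap k K a))) = D a
    rw [← one_smul K (KaehlerDifferential.D ℤ K (algebraMap k K a)), ← KaehlerDifferential.map_D ℤ ℤ k K a,
      ← mapBaseChange_tmul ℤ k K 1, show l (mapBaseChange ℤ k K _) = _ from LinearMap.congr_fun hl _]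
    simp
  · classical
    let b := Module.Free.chooseBasis k Ω[k⁄ℤ]
    let bK := b.baseChange K
    refine bK.ext_elem fun i => ?_
    let φ : Ω[k⁄ℤ] →ₗ[k] K := (Algebra.linearMap k K) ∘ₗ b.coord i
    obtain ⟨D', hD'⟩ := h (φ.compDer (KaehlerDifferential.D ℤ k))
    have key : D'.liftKaehlerDifferential ∘ₗ mapBaseChange ℤ k K = φ.liftBaseChange K := by
      refine TensorProduct.AlgebraTensorModule.ext fun c y => ?_
      have hy : y ∈ Submodule.span k (Set.range (KaehlerDifferential.D ℤ k)) := by
        rw [span_range_derivation]; trivial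
      induction hy using Submodule.span_induction with
      | mem _ h =>
        obtain ⟨a, rfl⟩ := h
        simp only [LinearMap.comp_apply, mapBaseChange_tmul, KaehlerDifferential.map_D, map_smul,
          Derivation.liftKaehlerDifferential_comp_D, hD', LinearMap.liftBaseChange_tmul]
        rfl
      | zero => simp
      | add u v _ _ hu hv => simp only [TensorProduct.tmul_add, map_add, hu, hv]
      | smul r u _ hu => simp only [TensorProduct.tmul_smul, LinearMap.map_smul_of_tower, hu]
    have h2 := LinearMap.congr_fun key w
    rw [LinearMap.comp_apply, hw, map_zero] at h2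
    rw [map_zero, Finsupp.zero_apply]
    refine Eq.trans ?_ h2.symm
    clear h2 hw
    induction w using TensorProduct.induction_on with
    | zero => simp
    | add u v hu hv => simp only [map_add, Finsupp.add_apply, hu, hv]
    | tmul c y =>
      simp [bK, φ, Module.Basis.baseChange_repr_tmul, Algebra.smul_def, mul_comm]

variable (p : ℕ) [Fact p.Prime] [CharP k p] [CharP K p]

/-- MacLane's condition: `p`-th powers preserve linear independence. -/
def PowLI : Prop :=
  ∀ s : Finset K, LinearIndepOn k id (s : Set K) → LinearIndepOn k (· ^ p) (s : Set K)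

theorem powLI_of_derivation
    (h : ∀ D : Derivation ℤ k K, ∃ D' : Derivation ℤ K K, ∀ a : k, D' (algebraMap k K a) = D a) :
    PowLI k K p := by
  classical
  intro s hs
  rw [linearIndepOn_finset_iff]
  intro c hc
  suffices key : ∀ (T : Finset K), T ⊆ s → ∀ c : K → k, ∑ x ∈ T, c x • x ^ p = 0 → ∀ x ∈ T, c x = 0 from
    fun i hi => key s subset_rfl c hc i hi
  intro T
  induction T using Finset.strongInduction with
  | H T ih =>
    intro hTs c hc x hx
    by_contra hx0
    let c' : K → k := fun y => c y * (c x)⁻¹
    have hc' : ∑ y ∈ T, c' y • y ^ p = 0 := by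
      rw [show ∑ y ∈ T, c' y • y ^ p = (c x)⁻¹ • ∑ y ∈ T, c y • y ^ p by
        rw [Finset.smul_sum]
        exact Finset.sum_congr rfl fun y _ => by rw [smul_smul, mul_comm], hc, smul_zero]
    have hcx : c' x = 1 := mul_inv_cancel₀ hx0
    let Pk := (frobenius k p).fieldRange
    have hPk : ∀ z : k, z ^ p ∈ Pk := fun z => ⟨z, rfl⟩
    have hroot : ∀ y ∈ T, c' y ∈ Pk := by
      intro y hy
      by_contra hyP
      obtain ⟨d, hd⟩ := KaehlerSubfield.exists_derivation p Pk hPk hyP
      let dK : Derivation ℤ k K :=
        Derivation.mk' (((Algebra.linearMap k K).restrictScalars ℤ) ∘ₗ (d.toLinearMap.restrictScalars ℤ))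
          (fun a b => by simp [Derivation.leibniz, Algebra.smul_def])
      obtain ⟨D', hD'⟩ := h dK
      have h2 := congrArg D' hc'
      rw [map_sum, map_zero] at h2
      have h3 : ∑ z ∈ T.erase x, d (c' z) • z ^ p = 0 := by
        rw [Finset.sum_erase]
        · rw [← h2]
          refine Finset.sum_congr rfl fun z _ => ?_
          rw [Algebra.smul_def, Algebra.smul_def, D'.leibniz, D'.leibniz_pow,
            ← Nat.cast_smul_eq_nsmul K, CharP.cast_eq_zero, zero_smul, smul_zero, zero_add, hD', smul_eq_mul,
            mul_comm]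
          rfl
        · rw [hcx, d.map_one_eq_zero, zero_smul]
      have hyx : y ≠ x := fun e => hyP (by rw [e, hcx]; exact one_mem _)
      have h4 := ih (T.erase x) (Finset.erase_ssubset hx) ((Finset.erase_subset x T).trans hTs)
        (fun z => d (c' z)) h3 y (Finset.mem_erase.mpr ⟨hyx, hy⟩)
      rw [hd] at h4
      exact one_ne_zero h4
    choose! e he using fun y hy => RingHom.mem_fieldRange.mp (hroot y hy)
    have hsum : ∑ y ∈ T, e y • y = 0 := by
      refine eq_zero_of_pow_eq_zero (n := p) ?_
      rw [sum_pow_char]
      rw [← hc']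
      refine Finset.sum_congr rfl fun y hy => ?_
      rw [smul_pow, ← he y hy, frobenius_def]
    have h5 : e x = 0 := (linearIndepOn_finset_iff.mp (hs.mono (Finset.coe_subset.mpr hTs))) e hsum x hx
    have h6 := he x hx
    rw [h5, map_zero, hcx] at h6
    exact zero_ne_one h6

theorem isGeometricallyReduced_of_powLI (h : PowLI k K p) : Algebra.IsGeometricallyReduced k K := by
  classical
  rw [Algebra.isGeometricallyReduced_field_iff]
  haveI : CharP (AlgebraicClosure k ⊗[k] K) p := charP_of_injective_algebraMap
    (algebraMap k (AlgebraicClosure k ⊗[k] K)).injective p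
  refine (isReduced_iff_pow_one_lt p (Fact.out : p.Prime).one_lt).mpr fun z hz => ?_
  let b := Module.Free.chooseBasis k K
  let bE := b.baseChange (AlgebraicClosure k)
  rw [← bE.linearCombination_repr z, Finsupp.linearCombination_apply] at hz ⊢
  set l := bE.repr z
  rw [Finsupp.sum, sum_pow_char] at hz
  have hli : LinearIndepOn k (fun x : K => x ^ p) (↑(l.support.image b) : Set K) :=
    h _ (b.linearIndependent.linearIndepOn_id.mono
      (show (↑(l.support.image b) : Set K) ⊆ Set.range b by rw [Finset.coe_image]; exact Set.image_subset_range _ _))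
  have hli2 : LinearIndependent k fun i : l.support => b i ^ p :=
    hli.linearIndependent.comp (fun i : l.support => ⟨b i, Finset.mem_coe.mpr (Finset.mem_image_of_mem b i.2)⟩)
      fun i j hij => Subtype.ext (b.injective (congrArg Subtype.val hij))
  let f : (l.support →₀ k) →ₗ[k] K := Finsupp.linearCombination k fun i : l.support => b i ^ p
  have hf : Function.Injective f := hli2
  have hfE : Function.Injective (f.baseChange (AlgebraicClosure k)) :=
    Module.Flat.lTensor_preserves_injective_linearMap _ hf
  have hzero : ∑ i : l.support, (l i ^ p) ⊗ₜ[k] Finsupp.single i (1 : k) = 0 := by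
    refine hfE ?_
    rw [map_sum, map_zero, ← hz, ← Finset.sum_coe_sort l.support]
    refine Finset.sum_congr rfl fun i _ => ?_
    simp [f, bE, Module.Basis.baseChange_apply, smul_pow, Algebra.TensorProduct.tmul_pow, TensorProduct.smul_tmul']
  refine Finset.sum_eq_zero fun i hi => ?_
  have h7 := congrArg (TensorProduct.finsuppScalarRight k k (AlgebraicClosure k) l.support) hzero
  have h8 := DFunLike.congr_fun h7 ⟨i, hi⟩
  simp [Finsupp.finsetSum_apply, Finsupp.single_apply] at h8
  simp [h8]

theorem powLI_of_isGeometricallyReduced [h : Algebra.IsGeometricallyReduced k K] : PowLI k K p := by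
  classical
  intro s hs
  rw [linearIndepOn_finset_iff]
  intro c hc i hi
  haveI : IsReduced (AlgebraicClosure k ⊗[k] K) := (Algebra.isGeometricallyReduced_field_iff k K).mp h
  haveI : CharP (AlgebraicClosure k ⊗[k] K) p := charP_of_injective_algebraMap
    (algebraMap k (AlgebraicClosure k ⊗[k] K)).injective p
  haveI : CharP (AlgebraicClosure k) p := charP_of_injective_algebraMap (algebraMap k (AlgebraicClosure k)).injective p
  choose r hr using fun x : K => IsAlgClosed.exists_pow_nat_eq (algebraMap k (AlgebraicClosure k) (c x))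
    (Fact.out : p.Prime).pos
  have hz : ∑ x ∈ s, r x ⊗ₜ[k] x = 0 := by
    refine eq_zero_of_pow_eq_zero (n := p) ?_
    rw [sum_pow_char]
    simp only [Algebra.TensorProduct.tmul_pow, hr, Algebra.algebraMap_eq_smul_one, TensorProduct.smul_tmul]
    rw [← TensorProduct.tmul_sum, hc, TensorProduct.tmul_zero]
  let f : (s →₀ k) →ₗ[k] K := Finsupp.linearCombination k fun x : s => (x : K)
  have hf : Function.Injective f := hs.linearIndependent
  have hzero : ∑ x : s, r x ⊗ₜ[k] Finsupp.single x (1 : k) = 0 := by
    refine Module.Flat.lTensor_preserves_injective_linearMap (M := AlgebraicClosure k) f hf ?_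
    rw [map_sum, map_zero, ← hz, ← Finset.sum_coe_sort s]
    simp [f]
  have h7 := congrArg (TensorProduct.finsuppScalarRight k k (AlgebraicClosure k) s) hzero
  have h8 := DFunLike.congr_fun h7 ⟨i, hi⟩
  simp [Finsupp.finsetSum_apply, Finsupp.single_apply] at h8
  have h9 := hr i
  rw [h8, zero_pow (Fact.out : p.Prime).ne_zero] at h9
  exact (map_eq_zero _).mp h9.symm

theorem formallySmooth_of_powLI (h : PowLI k K p) : Algebra.FormallySmooth k K := by
  refine FieldFS.formallySmooth_of_forall_essFiniteType k K fun E hE => ?_
  haveI := hE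
  obtain ⟨t, ht, hts⟩ := exists_isTranscendenceBasis_and_isSeparable_of_linearIndepOn_pow_of_essFiniteType
    (k := k) (K := E) p (Fact.out : p.Prime) (fun s hs => by
      have h1 : LinearIndepOn k id (↑(s.map ⟨E.val, E.val.injective⟩) : Set K) := by
        rw [Finset.coe_map]
        exact LinearIndepOn.image (f := E.val.toLinearMap) hs
          (by rw [LinearMap.ker_eq_bot.mpr E.val.injective]; exact disjoint_bot_right)
      have h2 : LinearIndepOn k (fun x : E => (x : K) ^ p) (s : Set E) := by
        have := h _ h1
        rw [Finset.coe_map] at this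
        exact this.comp_of_image E.val.injective.injOn
      refine LinearIndependent.of_comp E.val.toLinearMap ?_
      have h3 : LinearIndependent k fun x : (s : Set E) => ((x : E) : K) ^ p := h2
      exact h3)
  haveI : Algebra.IsSeparable (IntermediateField.adjoin k (Set.range ((↑) : t → E))) E := by
    convert hts <;> simp
  exact Algebra.FormallySmooth.of_algebraicIndependent_of_isSeparable (v := ((↑) : t → E)) (by exact ht.1)

omit [Fact p.Prime] [CharP k p] [CharP K p]

theorem isGeometricallyReduced_of_charZero [CharZero k] : Algebra.IsGeometricallyReduced k K := by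
  rw [Algebra.isGeometricallyReduced_field_iff]
  suffices h : IsReduced (K ⊗[k] AlgebraicClosure k) from
    isReduced_of_injective (Algebra.TensorProduct.comm k (AlgebraicClosure k) K) (AlgEquiv.injective _)
  refine IsReduced.tensorProduct_of_flat_of_forall_fg fun B hB => ?_
  haveI : Algebra.FiniteType k B := B.fg_iff_finiteType.mp hB
  haveI : Algebra.IsIntegral k B := ⟨fun b => IsIntegral.tower_bot (B := AlgebraicClosure k) Subtype.val_injective
    (Algebra.IsIntegral.isIntegral (b : AlgebraicClosure k))⟩
  haveI : Module.Finite k B := Algebra.IsIntegral.finite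
  letI : Field B := (Algebra.IsIntegral.isField_iff_isField (algebraMap k B).injective).mp (Field.toIsField k) |>.toField
  haveI : Algebra.IsSeparable k B := Algebra.IsAlgebraic.isSeparable_of_perfectField
  haveI : Algebra.FormallyUnramified k B := Algebra.FormallyUnramified.of_isSeparable k B
  exact Algebra.FormallyUnramified.isReduced_of_field K (K ⊗[k] B)

/-- Formal smoothness of a field extension is geometric reducedness. -/
theorem formallySmooth_iff_isGeometricallyReduced :
    Algebra.FormallySmooth k K ↔ Algebra.IsGeometricallyReduced k K := by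
  obtain ⟨q, hq⟩ := CharP.exists k
  rcases CharP.char_is_prime_or_zero k q with hp | hp
  · haveI : Fact q.Prime := ⟨hp⟩
    haveI : CharP K q := charP_of_injective_algebraMap (algebraMap k K).injective q
    refine ⟨fun h => isGeometricallyReduced_of_powLI k K q (powLI_of_derivation k K q
      ((injective_iff_derivation_extends k K).mp ((formallySmooth_iff_injective k K).mp h))), fun h => ?_⟩
    haveI := h
    exact formallySmooth_of_powLI k K q (powLI_of_isGeometricallyReduced k K q)
  · subst hp
    haveI := CharP.charP_to_charZero k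
    exact ⟨fun _ => isGeometricallyReduced_of_charZero k K, fun _ => FieldFS.formallySmooth_of_perfectField k K⟩

end Groth.Agent.Sep
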